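import Groth.Agent.InertiaFixed7.Theta

/-! Invariants of the inertia group are etale at the prime below. -/

set_option autoImplicit false
set_option linter.style.haveILetI false
universe u v

namespace Groth.Agent.InertiaFixed7

open Polynomial

variable {A B B' : Type u} [CommRing A] [CommRing B] [CommRing B'] [Algebra A B] [Algebra A B'] [Algebra B' B]
  [IsScalarTower A B' B] {G : Type v} [Group G] [Finite G] [MulSemiringAction G B]
  [Algebra.IsInvariant A B G]

/-- A polynomial fixed by the group comes from the invariant subring. -/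
theorem exists_map_eq (P : B[X]) (hP : ∀ σ : G, P.map (MulSemiringAction.toRingHom G B σ) = P) :
    ∃ P₀ : A[X], P₀.map (algebraMap A B) = P := by
  refine (Polynomial.mem_lifts P).1 ((Polynomial.lifts_iff_coeff_lifts P).2 fun n => ?_)
  exact Algebra.IsInvariant.isInvariant (G := G) (P.coeff n) fun σ => by
    conv_rhs => rw [← hP σ]
    rw [coeff_map]
    rfl

theorem etale_atPrime [SMulCommClass G A B] [IsDomain B] [Module.Finite A B]
    (hinj : Function.Injective (algebraMap A B)) (hinj' : Function.Injective (algebraMap B' B))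
    (hmax : ∀ p : Ideal A, p.IsPrime → p ≠ ⊥ → p.IsMaximal)
    (hloc : ∀ p : Ideal A, p.IsMaximal → ∀ p' : Ideal A, p'.IsMaximal → p = p')
    (m : Ideal B) [m.IsMaximal]
    (hrange : ∀ b : B, (∀ τ ∈ m.inertia G, τ • b = b) → b ∈ Set.range (algebraMap B' B))
    (hfix : ∀ x : B', ∀ τ ∈ m.inertia G, τ • algebraMap B' B x = algebraMap B' B x) :
    Algebra.Etale A (Localization.AtPrime (m.comap (algebraMap B' B))) := by
  classical
  letI := Fintype.ofFinite G
  haveI : IsDomain B' := hinj'.isDomain _
  haveI : IsDomain A := hinj.isDomain _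
  haveI : Algebra.IsIntegral A B := Algebra.IsIntegral.of_finite A B
  haveI : Algebra.IsIntegral A B' := ⟨fun x => (isIntegral_algebraMap_iff hinj').1 (Algebra.IsIntegral.isIntegral _)⟩
  haveI : Algebra.IsIntegral B' B := Algebra.IsIntegral.tower_top A
  haveI hmA : (m.under A).IsMaximal := Ideal.IsMaximal.under A m
  set m' := m.comap (algebraMap B' B) with hm'
  obtain ⟨θ, hθI, hθm, hθσ, hθsep⟩ := exists_theta (A := A) (G := G) m
  obtain ⟨θ', hθ'⟩ := hrange θ hθI
  -- the orbit of θ
  let O : Finset B := Finset.univ.image fun σ : G => σ • θ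
  have hO : ∀ (σ : G), O.image (σ • ·) = O := fun σ => by
    simp only [O, Finset.image_image]
    ext r
    simp only [Finset.mem_image, Finset.mem_univ, true_and, Function.comp_apply, smul_smul]
    exact ⟨fun ⟨τ, h⟩ => ⟨σ * τ, h⟩, fun ⟨τ, h⟩ => ⟨σ⁻¹ * τ, by rwa [mul_inv_cancel_left]⟩⟩
  let F : B[X] := ∏ r ∈ O, (X - C r)
  have hFfix : ∀ σ : G, F.map (MulSemiringAction.toRingHom G B σ) = F := fun σ => by
    conv_rhs => rw [show F = ∏ r ∈ O.image (σ • ·), (X - C r) by rw [hO], Finset.prod_image fun a _ b _ h => smul_left_cancel σ h]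
    rw [Polynomial.map_prod]
    refine Finset.prod_congr rfl fun r _ => ?_
    rw [Polynomial.map_sub, map_X, map_C, MulSemiringAction.toRingHom_apply]
  have hFlift : F ∈ lifts (algebraMap A B) := (Polynomial.mem_lifts F).2 (exists_map_eq F hFfix)
  obtain ⟨F₀, hF₀, -, hF₀m⟩ := Polynomial.lifts_and_degree_eq_and_monic hFlift (monic_prod_of_monic _ _ fun r _ => monic_X_sub_C r)
  have hθO : θ ∈ O := Finset.mem_image.2 ⟨1, Finset.mem_univ _, one_smul _ _⟩
  have haev : ∀ p : A[X], algebraMap B' B (aeval θ' p) = (p.map (algebraMap A B)).eval θ := fun p => by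
    rw [← aeval_algebraMap_apply, hθ', eval_map, aeval_def]
  have hF0 : aeval θ' F₀ = 0 := hinj' (by
    rw [haev, hF₀, map_zero, eval_prod]
    exact Finset.prod_eq_zero hθO (by simp))
  -- the derivative
  have hd : (derivative F).eval θ = ∏ r ∈ O.erase θ, (θ - r) := by
    rw [show F = (X - C θ) * ∏ r ∈ O.erase θ, (X - C r) from (Finset.mul_prod_erase _ _ hθO).symm,
      derivative_mul, derivative_X_sub_C, one_mul, eval_add, eval_mul, eval_sub, eval_X, eval_C, sub_self, zero_mul,
      add_zero, eval_prod]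
    simp
  have hdm : ∏ r ∈ O.erase θ, (θ - r) ∉ m := fun h => by
    obtain ⟨r, hr, hrm⟩ := (Ideal.IsPrime.prod_mem_iff (hp := (inferInstance : m.IsPrime))).1 h
    obtain ⟨hne, σ, -, rfl⟩ := (Finset.mem_erase.1 hr).imp_right Finset.mem_image.1
    exact hne (hθI σ (hθsep σ (by simpa using neg_mem hrm)))
  -- every element is a polynomial in θ over the derivative
  have hH : ∀ x : B', ∃ H₀ : A[X], aeval θ' H₀ = aeval θ' (derivative F₀) * x := by
    intro x
    have hch : ∀ r : B, ∃ σ : G, r ∈ O → σ • θ = r := fun r => by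
      by_cases hr : r ∈ O
      · obtain ⟨σ, -, hσ⟩ := Finset.mem_image.1 hr
        exact ⟨σ, fun _ => hσ⟩
      · exact ⟨1, fun h => absurd h hr⟩
    choose s hs using hch
    have hwd : ∀ σ τ : G, σ • θ = τ • θ → σ • algebraMap B' B x = τ • algebraMap B' B x := fun σ τ h => by
      have h1 : (τ⁻¹ * σ) • θ = θ := by rw [mul_smul, h, inv_smul_smul]
      have := hfix x _ (hθsep (τ⁻¹ * σ) (by rw [h1, sub_self]; exact zero_mem m))
      rwa [mul_smul, inv_smul_eq_iff] at this
    let H : B[X] := ∑ r ∈ O, C (s r • algebraMap B' B x) * ∏ t ∈ O.erase r, (X - C t)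
    obtain ⟨H₀, hH₀⟩ := exists_map_eq (A := A) (G := G) H fun σ => by
      conv_rhs => rw [show H = ∑ r ∈ O.image (σ • ·), C (s r • algebraMap B' B x) * ∏ t ∈ O.erase r, (X - C t) by rw [hO],
        Finset.sum_image fun a _ b _ h => smul_left_cancel σ h]
      rw [Polynomial.map_sum]
      refine Finset.sum_congr rfl fun r hr => ?_
      rw [Polynomial.map_mul, map_C, MulSemiringAction.toRingHom_apply, Polynomial.map_prod]
      congr 1
      · congr 1
        rw [smul_smul]
        refine hwd _ _ ?_
        rw [mul_smul, hs r hr, hs _ (by rw [← hO σ]; exact Finset.mem_image_of_mem _ hr)]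
      · have he : O.erase (σ • r) = (O.erase r).image (σ • ·) := by
          rw [Finset.image_erase fun a b h => smul_left_cancel σ h, hO]
        rw [he, Finset.prod_image fun a _ b _ h => smul_left_cancel σ h]
        exact Finset.prod_congr rfl fun t _ => by
          rw [Polynomial.map_sub, map_X, map_C, MulSemiringAction.toRingHom_apply]
    refine ⟨H₀, hinj' ?_⟩
    rw [map_mul, haev, haev, hH₀, ← derivative_map, hF₀, hd, eval_finset_sum,
      Finset.sum_eq_single θ ?_ (fun h => absurd hθO h)]
    · rw [eval_mul, eval_C, eval_prod, mul_comm]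
      congr 1
      · simp
      · rw [hwd (s θ) 1 (by rw [hs θ hθO, one_smul]), one_smul]
    · intro r hr hne
      rw [eval_mul, eval_prod, Finset.prod_eq_zero (Finset.mem_erase.2 ⟨fun h => hne h.symm, hθO⟩) (by simp), mul_zero]
  -- the standard etale pair
  let P : StandardEtalePair A :=
    { f := F₀, monic_f := hF₀m, g := derivative F₀ * X, cond := ⟨X, 0, 1, by simp⟩ }
  haveI : m'.IsPrime := Ideal.IsPrime.comap _
  let T := Localization.AtPrime m'
  have hdm' : aeval θ' (derivative F₀) ∉ m' := by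
    rw [hm', Ideal.mem_comap, haev, ← derivative_map, hF₀, hd]
    exact hdm
  have hθm' : θ' ∉ m' := by rw [hm', Ideal.mem_comap, hθ']; exact hθm
  let x : T := algebraMap B' T θ'
  have hx : P.HasMap x := by
    refine ⟨by rw [aeval_algebraMap_apply, hF0, map_zero], ?_⟩
    rw [aeval_algebraMap_apply]
    refine IsLocalization.map_units T (⟨_, ?_⟩ : m'.primeCompl)
    show aeval θ' (derivative F₀ * X) ∉ m'
    rw [map_mul, aeval_X]
    exact fun h => (Ideal.IsPrime.mem_or_mem inferInstance h).elim hdm' hθm'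
  -- every element outside m' divides a power of g(θ')
  have hdvd : ∀ t : B', t ∉ m' → ∃ N : ℕ, t ∣ aeval θ' P.g ^ N := by
    intro t ht
    have : aeval θ' P.g ∈ (Ideal.span {t}).radical := by
      rw [Ideal.radical_eq_sInf, Ideal.mem_sInf]
      rintro 𝔫 ⟨h𝔫t, h𝔫⟩
      by_cases hne : 𝔫 = ⊥
      · exfalso
        have h0 : t = 0 := by simpa [hne] using h𝔫t
        exact ht (h0 ▸ zero_mem m')
      haveI : (𝔫.under A).IsMaximal := hmax _ inferInstance (fun h0 => hne (Ideal.eq_bot_of_comap_eq_bot h0))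
      haveI h𝔫max : 𝔫.IsMaximal := Ideal.isMaximal_of_isIntegral_of_isMaximal_comap 𝔫 ‹_›
      obtain ⟨M, hM, hM𝔫⟩ := Ideal.exists_ideal_over_maximal_of_isIntegral 𝔫
        (by rw [(RingHom.injective_iff_ker_eq_bot _).1 hinj']; exact bot_le)
      haveI := hM
      haveI : (M.under A).IsMaximal := Ideal.IsMaximal.under A M
      obtain ⟨σ, hσ⟩ := Algebra.IsInvariant.exists_smul_of_under_eq A B G m M (hloc _ hmA _ inferInstance)
      have hMm : M ≠ m := fun h => ht (by
        rw [hm', ← h]
        rw [hM𝔫]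
        exact h𝔫t (Ideal.mem_span_singleton_self t))
      have hMσ : M = m.comap (MulSemiringAction.toRingHom G B σ⁻¹) := by
        rw [hσ, Ideal.pointwise_smul_eq_comap]
        ext z
        rfl
      have h1 : σ⁻¹ • θ ∈ m := hθσ _ (hMσ ▸ hMm)
      have h2 : θ ∈ M := by rw [hMσ]; exact h1
      have h3 : θ' ∈ 𝔫 := by rw [← hM𝔫, Ideal.mem_comap, hθ']; exact h2
      show aeval θ' (derivative F₀ * X) ∈ 𝔫
      rw [map_mul, aeval_X]
      exact 𝔫.mul_mem_left _ h3
    obtain ⟨N, hN⟩ := this
    exact ⟨N, Ideal.mem_span_singleton.1 hN⟩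
  haveI : IsDomain T := IsLocalization.isDomain_localization (Ideal.primeCompl_le_nonZeroDivisors m')
  have hBT : Function.Injective (algebraMap B' T) :=
    IsLocalization.injective T (Ideal.primeCompl_le_nonZeroDivisors m')
  have hlaev : ∀ p : A[X], P.lift x hx (aeval P.X p) = algebraMap B' T (aeval θ' p) := fun p => by
    rw [← aeval_algHom_apply, StandardEtalePair.lift_X, aeval_algebraMap_apply]
  have hu := P.hasMap_X.2
  have hud : IsUnit (aeval P.X (derivative F₀)) := P.hasMap_X.isUnit_derivative_f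
  have hbij : Function.Bijective (P.lift x hx) := by
    refine ⟨(injective_iff_map_eq_zero _).2 fun z hz => ?_, fun z => ?_⟩
    · obtain ⟨p, n, hp⟩ := StandardEtalePresentation.exists_mul_aeval_x_g_pow_eq_aeval_x
        ⟨P, P.X, P.hasMap_X, by simpa [StandardEtalePair.lift_X_left] using Function.bijective_id⟩ z
      have h1 : aeval θ' p = 0 := hBT (by
        rw [map_zero, ← hlaev, ← hp, map_mul, hz, zero_mul])
      have h2 : (p %ₘ F₀).map (algebraMap A B) = 0 := by
        refine eq_zero_of_natDegree_lt_card_of_eval_eq_zero' _ O (fun r hr => ?_) ?_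
        · obtain ⟨σ, -, rfl⟩ := Finset.mem_image.1 hr
          have h3 : ((p %ₘ F₀).map (algebraMap A B)).eval θ = 0 := by
            rw [← haev, Polynomial.modByMonic_eq_sub_mul_div, map_sub, map_mul, h1, hF0, zero_mul, sub_zero, map_zero]
          have h4 : MulSemiringAction.toAlgHom A B σ θ = σ • θ := rfl
          rw [eval_map, ← aeval_def, ← h4, aeval_algHom_apply, aeval_def, ← eval_map, h3, map_zero]
        · by_cases hz0 : p %ₘ F₀ = 0
          · simp [hz0, Finset.card_pos.2 ⟨θ, hθO⟩]
          · calc ((p %ₘ F₀).map (algebraMap A B)).natDegree ≤ (p %ₘ F₀).natDegree := natDegree_map_le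
              _ < F₀.natDegree := natDegree_modByMonic_lt _ hF₀m (fun h => by simp [h] at hz0)
              _ = F.natDegree := by rw [← hF₀, natDegree_map_eq_of_injective hinj]
              _ = O.card := by rw [show F = ∏ r ∈ O, (X - C r) from rfl, natDegree_prod_of_monic _ _ fun r _ => monic_X_sub_C r]; simp
      have h5 : p %ₘ F₀ = 0 := Polynomial.map_injective _ hinj (by rw [h2, Polynomial.map_zero])
      obtain ⟨w, hw⟩ := (modByMonic_eq_zero_iff_dvd hF₀m).1 h5
      have h6 : aeval P.X p = 0 := by rw [hw, map_mul, P.hasMap_X.1, zero_mul]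
      exact (hu.pow n).mul_left_eq_zero.1 (hp.trans h6)
    · obtain ⟨y, t, rfl⟩ := IsLocalization.exists_mk'_eq m'.primeCompl z
      obtain ⟨N, e, he⟩ := hdvd t t.2
      obtain ⟨H₀, hH₀⟩ := hH (y * e)
      refine ⟨aeval P.X H₀ * ↑(hud.unit⁻¹) * ↑((hu.pow N).unit⁻¹), IsLocalization.eq_mk'_iff_mul_eq.2 ?_⟩
      have hw : IsUnit (P.lift x hx (aeval P.X (derivative F₀) * aeval P.X P.g ^ N)) := (hud.mul (hu.pow N)).map _
      refine hw.mul_left_cancel ?_
      calc P.lift x hx (aeval P.X (derivative F₀) * aeval P.X P.g ^ N) *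
            (P.lift x hx (aeval P.X H₀ * ↑(hud.unit⁻¹) * ↑((hu.pow N).unit⁻¹)) * algebraMap B' T t)
          = P.lift x hx ((aeval P.X (derivative F₀) * ↑(hud.unit⁻¹)) * (aeval P.X P.g ^ N * ↑((hu.pow N).unit⁻¹)) *
              aeval P.X H₀) * algebraMap B' T t := by simp only [map_mul]; ring
        _ = algebraMap B' T (aeval θ' H₀ * t) := by
          rw [IsUnit.mul_val_inv, IsUnit.mul_val_inv, one_mul, one_mul, hlaev, map_mul]
        _ = algebraMap B' T (aeval θ' (derivative F₀) * aeval θ' P.g ^ N * y) := by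
          rw [hH₀, he]; congr 1; ring
        _ = P.lift x hx (aeval P.X (derivative F₀) * aeval P.X P.g ^ N) * algebraMap B' T y := by
          rw [map_mul (algebraMap B' T), map_mul (algebraMap B' T), map_pow (algebraMap B' T), map_mul (P.lift x hx),
            map_pow (P.lift x hx), hlaev, hlaev]
  exact Algebra.Etale.of_equiv (AlgEquiv.ofBijective _ hbij)

end Groth.Agent.InertiaFixed7
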