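import Mathlib

/-! An inertia-invariant element separating the cosets of the inertia group modulo a maximal ideal. -/

set_option autoImplicit false
set_option linter.style.haveILetI false
universe u v

namespace Groth.Agent.InertiaFixed7

open Polynomial

/-- In a finite field extension there is a nonzero element whose fixers fix everything. -/
theorem exists_rigid (k l : Type u) [Field k] [Field l] [Algebra k l] [FiniteDimensional k l] :
    ∃ w : l, w ≠ 0 ∧ ∀ φ : l →ₐ[k] l, φ w = w → φ = AlgHom.id k l := by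
  let q := ringExpChar k
  haveI : ExpChar k q := inferInstance
  haveI : ExpChar l q := expChar_of_injective_ringHom (algebraMap k l).injective q
  obtain ⟨w₀, hw₀⟩ := Field.exists_primitive_element k (separableClosure k l)
  have key : ∀ φ : l →ₐ[k] l, φ (w₀ : l) = (w₀ : l) → φ = AlgHom.id k l := by
    intro φ hφ
    have hs : ∀ y : separableClosure k l, φ (y : l) = y := by
      intro y
      have hy : y ∈ IntermediateField.adjoin k {w₀} := hw₀ ▸ IntermediateField.mem_top
      rw [← IntermediateField.mem_toSubalgebra,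
        IntermediateField.adjoin_simple_toSubalgebra_of_isAlgebraic (Algebra.IsAlgebraic.isAlgebraic w₀),
        Algebra.adjoin_singleton_eq_range_aeval] at hy
      obtain ⟨P, rfl⟩ := hy
      show φ ((separableClosure k l).val (aeval w₀ P)) = (separableClosure k l).val (aeval w₀ P)
      rw [← aeval_algHom_apply, ← aeval_algHom_apply, IntermediateField.coe_val, hφ]
    refine AlgHom.ext fun x => ?_
    haveI : ExpChar (separableClosure k l) q :=
      expChar_of_injective_ringHom (algebraMap k (separableClosure k l)).injective q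
    obtain ⟨n, y, hy⟩ := IsPurelyInseparable.pow_mem (separableClosure k l) q x
    refine (iterateFrobenius l q n).injective ?_
    rw [iterateFrobenius_def, iterateFrobenius_def, AlgHom.id_apply, ← map_pow, ← hy]
    exact hs y
  by_cases h0 : (w₀ : l) = 0
  · exact ⟨1, one_ne_zero, fun φ _ => key φ (by rw [h0, map_zero])⟩
  · exact ⟨w₀, h0, key⟩

/-- Some coefficient below the top of `(X - w)^n` is a nonzero multiple of an exponential characteristic power of `w`. -/
theorem exists_coeff (l : Type u) [Field l] (q : ℕ) [ExpChar l q] (n : ℕ) (hn : 0 < n) :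
    ∃ (j a : ℕ) (c : l), j < n ∧ c ≠ 0 ∧
      (∃ N : ℕ, (N : l) = c) ∧ ∀ w : l, ((X + C w) ^ n).coeff j = c * w ^ q ^ a := by
  have hq := expChar_pos l q
  obtain ⟨a, r, hr, hnr⟩ : ∃ a r : ℕ, (r : l) ≠ 0 ∧ n = q ^ a * r := by
    rcases expChar_is_prime_or_one l q with hp | h1
    · obtain ⟨a, r, hr, h⟩ := Nat.exists_eq_pow_mul_and_not_dvd (Nat.pos_iff_ne_zero.1 hn) q hp.ne_one
      haveI : CharP l q := by
        cases ‹ExpChar l q› with
        | zero => exact absurd hp Nat.not_prime_one
        | prime _ => assumption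
      exact ⟨a, r, fun h0 => hr ((CharP.cast_eq_zero_iff l q r).1 h0), h⟩
    · subst h1
      haveI : CharZero l := charZero_of_expChar_one' l
      exact ⟨0, n, Nat.cast_ne_zero.2 (Nat.pos_iff_ne_zero.1 hn), by simp⟩
  have hr0 : r ≠ 0 := fun h => hr (by simp [h])
  have hqa : 0 < q ^ a := pow_pos hq a
  refine ⟨(r - 1) * q ^ a, a, r, ?_, hr, ⟨r, rfl⟩, fun w => ?_⟩
  · rw [hnr, mul_comm (q ^ a) r]
    exact Nat.mul_lt_mul_of_lt_of_le (by omega) le_rfl hqa
  · have he : (X + C w) ^ n = expand l (q ^ a) ((X + C (w ^ q ^ a)) ^ r) := by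
      rw [hnr, pow_mul, add_pow_expChar_pow, map_pow, map_add, expand_X, expand_C, map_pow]
    rw [he, coeff_expand_mul hqa, coeff_X_add_C_pow, show r - (r - 1) = 1 by omega, pow_one,
      Nat.choose_symm (show 1 ≤ r by omega), Nat.choose_one_right, mul_comm]

variable {A B : Type u} [CommRing A] [CommRing B] [Algebra A B]
  {G : Type v} [Group G] [Finite G] [MulSemiringAction G B]

theorem isMaximal_comap_smul (m : Ideal B) [m.IsMaximal] (σ : G) :
    (m.comap (MulSemiringAction.toRingHom G B σ)).IsMaximal :=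
  Ideal.comap_isMaximal_of_surjective _ (fun b => ⟨σ⁻¹ • b, smul_inv_smul σ b⟩)

theorem exists_lift (m : Ideal B) [m.IsMaximal] (w : B ⧸ m) :
    ∃ b : B, Ideal.Quotient.mk m b = w ∧
      ∀ σ : G, m.comap (MulSemiringAction.toRingHom G B σ) ≠ m → σ • b ∈ m := by
  classical
  letI := Fintype.ofFinite G
  letI : Field (B ⧸ m) := Ideal.Quotient.field m
  have hch : ∀ σ : G, ∃ y : B, y ∉ m ∧ (m.comap (MulSemiringAction.toRingHom G B σ) ≠ m → σ • y ∈ m) := by
    intro σ
    by_cases h : m.comap (MulSemiringAction.toRingHom G B σ) = m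
    · exact ⟨1, fun h1 => ‹m.IsMaximal›.ne_top ((Ideal.eq_top_iff_one _).2 h1), fun h' => absurd h h'⟩
    · have : ¬ m.comap (MulSemiringAction.toRingHom G B σ) ≤ m :=
        fun hle => h ((isMaximal_comap_smul m σ).eq_of_le ‹m.IsMaximal›.ne_top hle)
      obtain ⟨y, hy, hym⟩ := SetLike.not_le_iff_exists.1 this
      exact ⟨y, hym, fun _ => hy⟩
  choose y hy hyσ using hch
  let Y := ∏ σ, y σ
  have hY : Ideal.Quotient.mk m Y ≠ 0 := by
    rw [map_prod]
    exact Finset.prod_ne_zero_iff.2 fun σ _ h => hy σ (Ideal.Quotient.eq_zero_iff_mem.1 h)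
  obtain ⟨z, hz⟩ := Ideal.Quotient.mk_surjective (w * (Ideal.Quotient.mk m Y)⁻¹)
  refine ⟨Y * z, ?_, fun σ hσ => ?_⟩
  · rw [map_mul, hz, mul_left_comm, mul_inv_cancel₀ hY, mul_one]
  · rw [smul_mul', Finset.smul_prod', ← Finset.mul_prod_erase _ _ (Finset.mem_univ σ)]
    exact Ideal.mul_mem_right _ _ (Ideal.mul_mem_right _ _ (hyσ σ hσ))

/-- The separating element. -/
theorem exists_theta [SMulCommClass G A B] (m : Ideal B) [m.IsMaximal] [(m.under A).IsMaximal]
    [Module.Finite A B] :
    ∃ θ : B, (∀ τ ∈ m.inertia G, τ • θ = θ) ∧ θ ∉ m ∧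
      (∀ σ : G, m.comap (MulSemiringAction.toRingHom G B σ) ≠ m → σ • θ ∈ m) ∧
      ∀ σ : G, σ • θ - θ ∈ m → σ ∈ m.inertia G := by
  classical
  letI : Field (A ⧸ m.under A) := Ideal.Quotient.field _
  letI : Field (B ⧸ m) := Ideal.Quotient.field m
  haveI : Module.Finite (A ⧸ m.under A) (B ⧸ m) := Module.Finite.of_restrictScalars_finite A _ _
  obtain ⟨w, hw0, hw⟩ := exists_rigid (A ⧸ m.under A) (B ⧸ m)
  obtain ⟨b, hb, hbσ⟩ := exists_lift (G := G) m w
  let q := ringExpChar (B ⧸ m)
  haveI : ExpChar (B ⧸ m) q := inferInstance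
  let I := m.inertia G
  letI := Fintype.ofFinite I
  obtain ⟨j, a, c, hj, hc, ⟨N, hN⟩, hcoef⟩ := exists_coeff (B ⧸ m) q (Fintype.card I) Fintype.card_pos
  let P : B[X] := ∏ τ : I, (X + C ((τ : G) • b))
  let θ := P.coeff j
  have hPfix : ∀ ρ ∈ I, P.map (MulSemiringAction.toRingHom G B ρ) = P := by
    intro ρ hρ
    rw [Polynomial.map_prod]
    refine Fintype.prod_equiv (Equiv.mulLeft (⟨ρ, hρ⟩ : I)) _ _ fun τ => ?_
    rw [Polynomial.map_add, map_X, map_C, MulSemiringAction.toRingHom_apply, smul_smul]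
    rfl
  have hθ : Ideal.Quotient.mk m θ = c * w ^ q ^ a := by
    rw [← hcoef, ← coeff_map, Polynomial.map_prod]
    congr 1
    rw [← Finset.card_univ, ← Finset.prod_const]
    refine Finset.prod_congr rfl fun τ _ => ?_
    rw [Polynomial.map_add, map_X, map_C, ← hb]
    congr 2
    exact Ideal.Quotient.eq.2 (τ.2 b)
  have hθm : θ ∉ m := fun h => mul_ne_zero hc (pow_ne_zero _ hw0) (hθ ▸ Ideal.Quotient.eq_zero_iff_mem.2 h)
  have hσθ : ∀ σ : G, m.comap (MulSemiringAction.toRingHom G B σ) ≠ m → σ • θ ∈ m := by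
    intro σ hσ
    have h1 : (P.map (MulSemiringAction.toRingHom G B σ)).map (Ideal.Quotient.mk m) = X ^ Fintype.card I := by
      rw [Polynomial.map_prod, Polynomial.map_prod, ← Finset.card_univ, ← Finset.prod_const]
      refine Finset.prod_congr rfl fun τ _ => ?_
      rw [Polynomial.map_add, Polynomial.map_add, map_X, map_X, map_C, map_C, MulSemiringAction.toRingHom_apply,
        smul_smul, Ideal.Quotient.eq_zero_iff_mem.2 (hbσ (σ * τ) ?_), map_zero, add_zero]
      intro h
      refine hσ ?_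
      ext x
      rw [Ideal.mem_comap, MulSemiringAction.toRingHom_apply]
      have h' : ∀ z, (τ : G) • z - z ∈ m := τ.2
      have hτ : ∀ z : B, z ∈ m ↔ (τ : G) • z ∈ m := fun z =>
        ⟨fun hz => by simpa using add_mem (h' z) hz, fun hz => by simpa using sub_mem hz (h' z)⟩
      have h2 : ∀ z : B, (σ * τ) • z ∈ m ↔ z ∈ m := fun z => by
        conv_rhs => rw [← h]
        rfl
      have := h2 ((τ : G)⁻¹ • x)
      rw [mul_smul, smul_inv_smul] at this
      rw [this, hτ, smul_inv_smul]
    have h3 := congrArg (fun Q : (B ⧸ m)[X] => Q.coeff j) h1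
    simp only [coeff_map, coeff_X_pow, if_neg (Nat.ne_of_lt hj)] at h3
    exact Ideal.Quotient.eq_zero_iff_mem.1 h3
  refine ⟨θ, fun τ hτ => ?_, hθm, hσθ, fun σ hσ => ?_⟩
  · have := congrArg (fun Q : B[X] => Q.coeff j) (hPfix τ hτ)
    rw [coeff_map] at this
    exact this
  · by_cases hσm : m.comap (MulSemiringAction.toRingHom G B σ) = m
    · let φ₀ : (B ⧸ m) →+* (B ⧸ m) :=
        Ideal.Quotient.lift m ((Ideal.Quotient.mk m).comp (MulSemiringAction.toRingHom G B σ)) fun x hx =>
          Ideal.Quotient.eq_zero_iff_mem.2 (show x ∈ m.comap (MulSemiringAction.toRingHom G B σ) by rw [hσm]; exact hx)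
      let φ : (B ⧸ m) →ₐ[A ⧸ m.under A] (B ⧸ m) :=
        { φ₀ with
          commutes' := fun x => by
            obtain ⟨x, rfl⟩ := Ideal.Quotient.mk_surjective x
            show Ideal.Quotient.mk m (σ • algebraMap A B x) = Ideal.Quotient.mk m (algebraMap A B x)
            rw [smul_algebraMap] }
      have hφθ : φ (c * w ^ q ^ a) = c * w ^ q ^ a := by
        rw [← hθ]
        exact Ideal.Quotient.eq.2 hσ
      have hφw : φ w = w := by
        rw [map_mul, map_pow, ← hN, map_natCast] at hφθ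
        exact (iterateFrobenius (B ⧸ m) q a).injective (mul_left_cancel₀ (hN ▸ hc) hφθ)
      intro x
      have hx : φ (Ideal.Quotient.mk m x) = Ideal.Quotient.mk m x := by rw [hw φ hφw]; rfl
      exact Ideal.Quotient.eq.1 hx
    · exfalso
      exact hθm (by simpa using sub_mem (hσθ σ hσm) hσ)

end Groth.Agent.InertiaFixed7
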